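import Groth.Agent.S1459
import Groth.Agent.S9566
import Groth.Agent.CohenLib.RegularField
import Groth.Agent.CommAlgDim.Regular
import Groth.Agent.Unram17Lib.SmoothStalk

/-! Etale slices through points with separable residue extension of a smooth morphism. -/

set_option autoImplicit false
set_option backward.isDefEq.respectTransparency false
universe u

open CategoryTheory CategoryTheory.Limits AlgebraicGeometry IsLocalRing

noncomputable section

namespace EtSliceFibLib

/-- The maximal ideal of the fibre of a formally smooth local algebra is generated by a regular sequence. -/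
theorem exists_regular_generators (A B : Type u) [CommRing A] [IsLocalRing A] [CommRing B] [IsLocalRing B]
    [Algebra A B] [IsLocalHom (algebraMap A B)] [Algebra.FormallySmooth A B] [Algebra.EssFiniteType A B]
    (M : Ideal B) (hM : (maximalIdeal A).map (algebraMap A B) ⊔ M = maximalIdeal B) :
    ∃ hs : List B, (∀ h ∈ hs, h ∈ M) ∧
      RingTheory.Sequence.IsRegular (B ⧸ (maximalIdeal A).map (algebraMap A B))
        (hs.map (Ideal.Quotient.mk ((maximalIdeal A).map (algebraMap A B)))) ∧
      (maximalIdeal A).map (algebraMap A B) ⊔ Ideal.ofList hs = maximalIdeal B := by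
  let J := (maximalIdeal A).map (algebraMap A B)
  let _ : Field (A ⧸ maximalIdeal A) := Ideal.Quotient.field _
  have hJ : J ≤ maximalIdeal B := Ideal.map_le_iff_le_comap.2 fun a ha => map_nonunit _ a ha
  haveI := CohenLib.formallySmooth_quotient A B (maximalIdeal A)
  haveI : Nontrivial (B ⧸ J) :=
    Ideal.Quotient.nontrivial_iff.2 fun h => (maximalIdeal.isMaximal B).ne_top (top_le_iff.1 (h ▸ hJ))
  haveI : IsLocalRing (B ⧸ J) := IsLocalRing.of_surjective' _ Ideal.Quotient.mk_surjective
  haveI : Algebra.EssFiniteType B (B ⧸ J) := inferInstance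
  haveI : Algebra.EssFiniteType A (B ⧸ J) := Algebra.EssFiniteType.comp A B (B ⧸ J)
  haveI : IsScalarTower A (A ⧸ maximalIdeal A) (B ⧸ J) := IsScalarTower.of_algebraMap_eq fun a => rfl
  haveI : Algebra.EssFiniteType (A ⧸ maximalIdeal A) (B ⧸ J) := Algebra.EssFiniteType.of_comp A _ _
  haveI : IsNoetherianRing (B ⧸ J) := Algebra.EssFiniteType.isNoetherianRing (A ⧸ maximalIdeal A) _
  haveI : IsRegularLocalRing (B ⧸ J) :=
    CohenLib.isRegularLocalRing_of_formallySmooth (k := A ⧸ maximalIdeal A)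
  let _ : Field ((B ⧸ J) ⧸ maximalIdeal (B ⧸ J)) := Ideal.Quotient.field _
  haveI : IsRegularLocalRing ((B ⧸ J) ⧸ maximalIdeal (B ⧸ J)) := inferInstance
  obtain ⟨rs, hrs, hmax⟩ := CommAlgDim.exists_isRegular_of_regular_quotient (J := maximalIdeal (B ⧸ J))
  have hsurj : ∀ r ∈ rs, ∃ h ∈ M, Ideal.Quotient.mk J h = r := fun r hr => by
    have h1 : r ∈ M.map (Ideal.Quotient.mk J) := by
      have h2 : r ∈ maximalIdeal (B ⧸ J) := hmax ▸ Ideal.subset_span hr
      rwa [← map_maximalIdeal_of_surjective _ Ideal.Quotient.mk_surjective, ← hM, Ideal.map_sup,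
        Ideal.map_quotient_self, bot_sup_eq] at h2
    exact (Ideal.mem_map_iff_of_surjective _ Ideal.Quotient.mk_surjective).1 h1
  obtain ⟨hs, hsK, rfl⟩ : ∃ hs : List B, (∀ h ∈ hs, h ∈ M) ∧ hs.map (Ideal.Quotient.mk J) = rs := by
    clear hrs hmax
    induction rs with
    | nil => exact ⟨[], by simp, rfl⟩
    | cons r rs ih =>
      obtain ⟨h, hh, hr⟩ := hsurj r (List.mem_cons_self ..)
      obtain ⟨hs, h1, h2⟩ := ih fun r hr => hsurj r (List.mem_cons_of_mem _ hr)
      exact ⟨h :: hs, List.forall_mem_cons.2 ⟨hh, h1⟩, by simp [hr, h2]⟩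
  refine ⟨hs, hsK, hrs, ?_⟩
  rw [← Ideal.map_ofList, ← map_maximalIdeal_of_surjective _ Ideal.Quotient.mk_surjective] at hmax
  have h := congrArg (Ideal.comap (Ideal.Quotient.mk J)) hmax
  rw [Ideal.comap_map_of_surjective _ Ideal.Quotient.mk_surjective,
    Ideal.comap_map_of_surjective _ Ideal.Quotient.mk_surjective, ← RingHom.ker_eq_comap_bot, Ideal.mk_ker,
    sup_eq_left.2 hJ] at h
  rw [sup_comm]
  exact h

/-- A point where a flat morphism of finite presentation is unramified has an etale neighbourhood. -/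
theorem exists_etale_nhd {X Y : Scheme.{u}} (f : X ⟶ Y) [LocallyOfFinitePresentation f] [Flat f] (x : X)
    (hunr : (f.stalkMap x).hom.FormallyUnramified) : ∃ U : X.Opens, x ∈ U ∧ Etale (U.ι ≫ f) := by
  obtain ⟨U, hU, hxU, -⟩ := exists_isAffineOpen_mem_and_subset (X := Y) (U := ⊤) (x := f x) trivial
  obtain ⟨V, hV, hxV, hVU⟩ := exists_isAffineOpen_mem_and_subset (X := X) (U := f ⁻¹ᵁ U) (x := x) hxU
  let := (f.appLE U V hVU).hom.toAlgebra
  have : Module.Flat Γ(Y, U) Γ(X, V) := Flat.flat_appLE f hU hV hVU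
  have : Algebra.FinitePresentation Γ(Y, U) Γ(X, V) := f.finitePresentation_appLE hU hV hVU
  let p := (hU.primeIdealOf ⟨f x, hVU hxV⟩).asIdeal
  let q := (hV.primeIdealOf ⟨x, hxV⟩).asIdeal
  have : q.LiesOver p :=
    ⟨congr($(IsAffineOpen.comap_primeIdealOf_appLE U hU V hV hVU hxV).1).symm⟩
  let := Localization.AtPrime.algebraOfLiesOver p q
  have h1 : Algebra.FormallyUnramified (Localization.AtPrime p) (Localization.AtPrime q) :=
    RingHom.formallyUnramified_algebraMap.mp
      ((RingHom.FormallyUnramified.respectsIso.arrow_mk_iso_iff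
        (IsAffineOpen.arrowStalkMapIso f U hU V hV hVU hxV)).mp hunr)
  have : Algebra.IsUnramifiedAt Γ(Y, U) q :=
    Algebra.FormallyUnramified.comp _ (Localization.AtPrime p) _
  have : Algebra.IsEtaleAt Γ(Y, U) q := Algebra.IsEtaleAt.of_isUnramifiedAt_of_flat q
  obtain ⟨a, ha, het⟩ := Algebra.exists_etale_of_isEtaleAt (R := Γ(Y, U)) q
  refine ⟨X.basicOpen a, ?_, ?_⟩
  · have := hV.fromSpec_primeIdealOf ⟨x, hxV⟩
    have h2 : hV.primeIdealOf ⟨x, hxV⟩ ∈ PrimeSpectrum.basicOpen a := ha
    rw [← hV.fromSpec_preimage_basicOpen] at h2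
    change hV.fromSpec (hV.primeIdealOf ⟨x, hxV⟩) ∈ X.basicOpen a at h2
    rwa [this] at h2
  · have hW := hV.basicOpen a
    have hWU : X.basicOpen a ≤ f ⁻¹ᵁ U := (X.basicOpen_le a).trans hVU
    rw [← Scheme.Hom.resLE_comp_ι f hWU]
    have : IsAffine (U : Scheme.{u}) := hU
    have : IsAffine (X.basicOpen a : Scheme.{u}) := hW
    have : Etale (f.resLE U (X.basicOpen a) hWU) := by
      rw [HasRingHomProperty.iff_of_isAffine (P := @Etale)]
      refine (RingHom.Etale.respectsIso.arrow_mk_iso_iff (arrowResLEAppIso f U _ hWU)).mpr ?_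
      let := hV.isLocalization_basicOpen a
      let e := (Localization.algEquiv (Submonoid.powers a) Γ(X, X.basicOpen a))
      have h3 : (f.appLE U (X.basicOpen a) hWU).hom =
          e.toRingEquiv.toRingHom.comp (algebraMap Γ(Y, U) (Localization.Away a)) := by
        ext r
        refine Eq.trans ?_ (((congrArg e (IsScalarTower.algebraMap_apply Γ(Y, U) Γ(X, V) (Localization.Away a) r)).trans (e.commutes _)).symm)
        exact (congr($(f.appLE_map hVU (homOfLE (X.basicOpen_le a)).op) r)).symm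
      rw [h3]
      exact RingHom.Etale.respectsIso.1 _ _ (RingHom.etale_algebraMap.mpr het)
    infer_instance

/-- The structure map of a slice on global functions. -/
theorem appLE_slice {X : Scheme.{u}} {U : X.Opens} (hU : IsAffineOpen U) (I : Ideal Γ(X, U))
    (e : (⊤ : (Spec (CommRingCat.of (Γ(X, U) ⧸ I))).Opens) ≤
      (Spec.map (CommRingCat.ofHom (Ideal.Quotient.mk I)) ≫ hU.fromSpec) ⁻¹ᵁ U) :
    (Spec.map (CommRingCat.ofHom (Ideal.Quotient.mk I)) ≫ hU.fromSpec).appLE U ⊤ e =
      CommRingCat.ofHom (Ideal.Quotient.mk I) ≫ (Scheme.ΓSpecIso (CommRingCat.of (Γ(X, U) ⧸ I))).inv := by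
  rw [Scheme.Hom.appLE, Scheme.Hom.comp_app, hU.fromSpec_app_self]
  simp [Scheme.Hom.app_eq_appLE, Scheme.ΓSpecIso_inv_naturality]
  rfl

/-- An etale slice through a point with separable residue extension, cut out by elements of a given ideal. -/
theorem exists_slice {X S : Scheme.{u}} (f : X ⟶ S) [Smooth f] (x : X) (M : Ideal (X.presheaf.stalk x))
    (hM : (maximalIdeal (S.presheaf.stalk (f x))).map (f.stalkMap x).hom ⊔ M = maximalIdeal (X.presheaf.stalk x))
    (hsep : @Algebra.IsSeparable (S.residueField (f x)) (X.residueField x) _ _ (f.residueFieldMap x).hom.toAlgebra) :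
    ∃ (U : X.Opens) (hU : IsAffineOpen U) (hx : x ∈ U) (hs' : List Γ(X, U)),
      (∀ g ∈ hs', X.presheaf.germ U x hx g ∈ M) ∧
      ∃ (O : (Spec (CommRingCat.of (Γ(X, U) ⧸ Ideal.ofList hs'))).Opens) (z : _), z ∈ O ∧
        (Spec.map (CommRingCat.ofHom (Ideal.Quotient.mk (Ideal.ofList hs'))) ≫ hU.fromSpec) z = x ∧
        Etale (O.ι ≫ Spec.map (CommRingCat.ofHom (Ideal.Quotient.mk (Ideal.ofList hs'))) ≫ hU.fromSpec ≫ f) := by
  letI := (f.stalkMap x).hom.toAlgebra
  haveI : IsLocalHom (algebraMap (S.presheaf.stalk (f x)) (X.presheaf.stalk x)) :=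
    inferInstanceAs (IsLocalHom (f.stalkMap x).hom)
  haveI : Algebra.EssFiniteType (S.presheaf.stalk (f x)) (X.presheaf.stalk x) := by
    rw [← RingHom.essFiniteType_algebraMap, RingHom.algebraMap_toAlgebra]
    exact LocallyOfFiniteType.stalkMap f x
  haveI : Algebra.FormallySmooth (S.presheaf.stalk (f x)) (X.presheaf.stalk x) := by
    have h : x ∈ f.smoothLocus := by rw [Scheme.Hom.smoothLocus_eq_top]; trivial
    exact h
  obtain ⟨hs, hsM, hreg, hgen⟩ := exists_regular_generators (S.presheaf.stalk (f x)) (X.presheaf.stalk x) M hM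
  obtain ⟨U, hU, hx, hs', hgerm, hrc, ⟨z, hz⟩, hflat, hlfp, -⟩ :=
    Groth.Agent.S1459.result f x (Flat.stalkMap f x) hs hreg
  refine ⟨U, hU, hx, hs', fun g hg => hsM _ (hgerm ▸ List.mem_map_of_mem hg), ?_⟩
  let q := Spec.map (CommRingCat.ofHom (Ideal.Quotient.mk (Ideal.ofList hs')))
  let c := q ≫ hU.fromSpec
  subst hz
  haveI : IsClosedImmersion q := IsClosedImmersion.spec_of_surjective _ Ideal.Quotient.mk_surjective
  have hψ : Function.Surjective (c.stalkMap z) := by
    rw [Scheme.Hom.stalkMap_comp]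
    exact (q.stalkMap_surjective z).comp (ConcreteCategory.bijective_of_isIso (hU.fromSpec.stalkMap (q z))).2
  haveI : IsLocalHom (c.stalkMap z).hom := inferInstance
  have hker : ∀ g ∈ hs', c.stalkMap z (X.presheaf.germ U (c z) hx g) = 0 := fun g hg => by
    have e : (⊤ : (Spec (CommRingCat.of (Γ(X, U) ⧸ Ideal.ofList hs'))).Opens) ≤ c ⁻¹ᵁ U := fun w _ => by
      show hU.fromSpec (q w) ∈ U
      exact hU.range_fromSpec.le ⟨q w, rfl⟩
    rw [← CommRingCat.comp_apply, Scheme.Hom.germ_stalkMap, CommRingCat.comp_apply,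
      ← TopCat.Presheaf.germ_res_apply _ (homOfLE e) z trivial, ← CommRingCat.comp_apply (c.app U)]
    rw [show c.app U ≫ (Spec _).presheaf.map (homOfLE e).op = c.appLE U ⊤ e from rfl, appLE_slice hU _ e,
      CommRingCat.comp_apply]
    rw [show (CommRingCat.ofHom (Ideal.Quotient.mk (Ideal.ofList hs'))) g = 0 from
      Ideal.Quotient.eq_zero_iff_mem.2 (Ideal.subset_span hg), map_zero, map_zero]
  have hmax : (maximalIdeal (S.presheaf.stalk (f (c z)))).map ((c ≫ f).stalkMap z).hom = maximalIdeal _ := by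
    rw [Scheme.Hom.stalkMap_comp, CommRingCat.hom_comp, ← Ideal.map_map,
      ← map_maximalIdeal_of_surjective (c.stalkMap z).hom hψ, ← hgen, Ideal.map_sup]
    refine (sup_eq_left.2 ?_).symm
    rw [Ideal.map_ofList, ← hgerm]
    refine Ideal.span_le.2 fun a ha => ?_
    obtain ⟨b, hb, rfl⟩ := List.mem_map.1 (show a ∈ List.map _ (List.map _ hs') from ha)
    obtain ⟨g, hg, rfl⟩ := List.mem_map.1 hb
    rw [show (c.stalkMap z).hom (X.presheaf.germ U (c z) hx g) = 0 from hker g hg]
    exact Submodule.zero_mem _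
  haveI : LocallyOfFinitePresentation (c ≫ f) := by rw [Category.assoc]; exact hlfp
  haveI : Flat (c ≫ f) := by rw [Category.assoc]; exact hflat
  have hunr : ((c ≫ f).stalkMap z).hom.FormallyUnramified := by
    letI := ((c ≫ f).stalkMap z).hom.toAlgebra
    haveI : IsLocalHom (algebraMap (S.presheaf.stalk ((c ≫ f) z)) ((Spec _).presheaf.stalk z)) :=
      inferInstanceAs <| IsLocalHom ((c ≫ f).stalkMap z).hom
    haveI : Algebra.EssFiniteType (S.presheaf.stalk ((c ≫ f) z))
        ((Spec (CommRingCat.of (Γ(X, U) ⧸ Ideal.ofList hs'))).presheaf.stalk z) := by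
      rw [← RingHom.essFiniteType_algebraMap, RingHom.algebraMap_toAlgebra]
      exact LocallyOfFiniteType.stalkMap (c ≫ f) z
    refine Algebra.FormallyUnramified.iff_map_maximalIdeal_eq.2 ⟨?_, hmax⟩
    refine (Groth.Agent.S9566.residue_iff (c ≫ f) z).2.1 ?_
    letI := (f.residueFieldMap (c z)).hom.toAlgebra
    letI : Algebra (S.residueField (f (c z))) ((Spec (CommRingCat.of (Γ(X, U) ⧸ Ideal.ofList hs'))).residueField z) :=
      ((c ≫ f).residueFieldMap z).hom.toAlgebra
    haveI := hsep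
    let e : X.residueField (c z) →ₐ[S.residueField (f (c z))] (Spec (CommRingCat.of (Γ(X, U) ⧸ Ideal.ofList hs'))).residueField z :=
      { (c.residueFieldMap z).hom with
        commutes' := fun r => congr($(Scheme.residueFieldMap_comp c f z) r).symm }
    have hes : Function.Surjective e := fun b => by
      obtain ⟨b, rfl⟩ := Scheme.residue_surjective _ _ b
      obtain ⟨a, rfl⟩ := hψ b
      refine ⟨X.residue (c z) a, ?_⟩
      show (c.residueFieldMap z) (X.residue (c z) a) = _
      exact congr($(Scheme.residue_residueFieldMap c z) a)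
    exact (AlgEquiv.Algebra.isSeparable_iff (AlgEquiv.ofBijective e ⟨e.toRingHom.injective, hes⟩)).1 hsep
  obtain ⟨O, hzO, hO⟩ := exists_etale_nhd (c ≫ f) z hunr
  refine ⟨O, z, hzO, rfl, ?_⟩
  rwa [Category.assoc] at hO

end EtSliceFibLib
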